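import Cfsg.Agent.H939.RgdV
import Cfsg.Agent.S1055
import Cfsg.Agent.S0270
import Cfsg.Agent.S0283
import Cfsg.Agent.S1679
import Cfsg.Agent.S1680
import Cfsg.Agent.S1682
import Cfsg.Agent.S1683
import Cfsg.Agent.S1684
import Cfsg.Agent.S1687
import Cfsg.Agent.S1688
import Cfsg.Agent.S1689
import Cfsg.Agent.GpSp.Row
import Cfsg.Agent.Fischer.Fi22Order
import Cfsg.Agent.S1697
import Cfsg.Agent.Fischer.Fi24Real
import Cfsg.Agent.Fischer.Fi24Spider
import Cfsg.Agent.Fischer.Fi24Index_m3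
import Cfsg.Agent.H603.SporElim
import Cfsg.Agent.FastGrp
import Cfsg.Agent.Prune
set_option linter.all false
prune_inst 0x7ffffefbfffd7ffeffff7e7ffffddffffbfefffffffffffbffeefbffbffffb8efbfdfbaf7febdbff3ef7f29ebafc7bd3fffeeabfafffdc7ffffd5ff47ffffd9f9f6fbf9d71f7bd3edfff6ffffbf1ffce7f3fffffffffffffffffffffffffffbefffdffbfffff
open scoped Cfsg.Agent.FastGrp

-- part: H13/RankCL
section
/-!
# Complemented subgroup lattices from suborbit lengths (helper13, S5900)

`X` the stabilizer of a point, the suborbits given with their lengths: the length of an orbit of an overgroup of `X` is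
`1 +` a sum of suborbit lengths and divides the index.
-/

set_option autoImplicit false

namespace Cfsg.Agent.H13.RankCL

open Subgroup MulAction Cfsg.Agent.H939.KLat

variable {G Ω : Type*} [Group G] [MulAction G Ω]

/-- an invariant set meets a transitive block in nothing or contains it -/
theorem block {X : Subgroup G} {D B : Set Ω} (hD : ∀ x ∈ X, ∀ d ∈ D, x • d ∈ D)
    (hB : ∀ a ∈ B, ∀ b ∈ B, ∃ x ∈ X, x • a = b) : D ∩ B = ∅ ∨ B ⊆ D := by
  rcases Set.eq_empty_or_nonempty (D ∩ B) with h | ⟨a, haD, haB⟩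
  · exact Or.inl h
  · right
    intro b hb
    obtain ⟨x, hx, rfl⟩ := hB a haB b hb
    exact hD x hx a haD

/-- the size of a set as a sum over disjoint blocks -/
theorem ncard_sum {ι : Type*} [Fintype ι] {D : Set Ω} (hfin : D.Finite) (o : Ω) (ho : o ∈ D)
    (B : ι → Set Ω) (hoB : ∀ i, o ∉ B i) (hdisj : ∀ i j, i ≠ j → Disjoint (B i) (B j))
    (hcov : ∀ d ∈ D, d = o ∨ ∃ i, d ∈ B i) : D.ncard = 1 + ∑ i, (D ∩ B i).ncard := by
  classical
  have h1 : D = {o} ∪ ⋃ i, (D ∩ B i) := by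
    ext d
    constructor
    · intro hd
      rcases hcov d hd with rfl | ⟨i, hi⟩
      · exact Or.inl rfl
      · right
        exact Set.mem_iUnion.2 ⟨i, hd, hi⟩
    · rintro (h | h)
      · rw [Set.mem_singleton_iff.1 h]; exact ho
      · exact (Set.mem_iUnion.1 h).choose_spec.1
  have hfB : ∀ i, (D ∩ B i).Finite := fun i => hfin.subset Set.inter_subset_left
  have h2 : ∀ S : Finset ι, (⋃ i ∈ S, (D ∩ B i)).ncard = ∑ i ∈ S, (D ∩ B i).ncard := by
    intro S
    induction S using Finset.induction_on with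
    | empty => simp
    | insert a s ha ih =>
      have hf : (⋃ i ∈ s, (D ∩ B i)).Finite := Set.Finite.biUnion (Finset.finite_toSet s) fun i _ => hfB i
      rw [Finset.sum_insert ha, Finset.set_biUnion_insert, Set.ncard_union_eq ?_ (hfB a) hf, ih]
      rw [Set.disjoint_iUnion₂_right]
      intro j hj
      exact (hdisj a j (by rintro rfl; exact ha hj)).mono Set.inter_subset_right Set.inter_subset_right
  have h3 : (⋃ i, (D ∩ B i)) = ⋃ i ∈ (Finset.univ : Finset ι), (D ∩ B i) := by simp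
  have h4 : D.ncard = ({o} ∪ ⋃ i, (D ∩ B i)).ncard := congrArg Set.ncard h1
  rw [h4, Set.ncard_union_eq ?_ (Set.finite_singleton _) (Set.finite_iUnion fun i => hfB i), Set.ncard_singleton, h3, h2]
  rw [Set.disjoint_iUnion_right]
  intro j
  rw [Set.disjoint_singleton_left]
  exact fun h => hoB j h.2

/-- the size of an invariant set covered by transitive blocks -/
theorem card_eq {ι : Type*} [Fintype ι] {X : Subgroup G} {D : Set Ω} (hfin : D.Finite) (o : Ω) (ho : o ∈ D)
    (hD : ∀ x ∈ X, ∀ d ∈ D, x • d ∈ D)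
    (B : ι → Set Ω) (hB : ∀ i, ∀ a ∈ B i, ∀ b ∈ B i, ∃ x ∈ X, x • a = b)
    (hoB : ∀ i, o ∉ B i) (hdisj : ∀ i j, i ≠ j → Disjoint (B i) (B j))
    (hcov : ∀ d ∈ D, d = o ∨ ∃ i, d ∈ B i) :
    ∃ S : Finset ι, D.ncard = 1 + ∑ i ∈ S, (B i).ncard := by
  classical
  refine ⟨Finset.univ.filter fun i => B i ⊆ D, ?_⟩
  rw [ncard_sum hfin o ho B hoB hdisj hcov, Finset.sum_filter]
  congr 1
  refine Finset.sum_congr rfl fun i _ => ?_
  by_cases h : B i ⊆ D
  · rw [if_pos h, Set.inter_eq_right.2 h]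
  · rw [if_neg h]
    rcases block (X := X) hD (hB i) with h1 | h1
    · rw [h1, Set.ncard_empty]
    · exact absurd h1 h

/-- the orbit of an overgroup -/
theorem orbit_card {ι : Type*} [Fintype ι] [Finite G] {X Y : Subgroup G} (hXY : X ≤ Y) (o : Ω)
    (B : ι → Set Ω) (hB : ∀ i, ∀ a ∈ B i, ∀ b ∈ B i, ∃ x ∈ X, x • a = b)
    (hoB : ∀ i, o ∉ B i) (hdisj : ∀ i j, i ≠ j → Disjoint (B i) (B j))
    (hcov : ∀ g : G, g • o = o ∨ ∃ i, g • o ∈ B i) :
    ∃ S : Finset ι, (orbit Y o).ncard = 1 + ∑ i ∈ S, (B i).ncard := by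
  refine card_eq (X := X) (D := orbit Y o) (Set.finite_range _) o (mem_orbit_self o) ?_ B hB hoB hdisj ?_
  · rintro x hx _ ⟨y, rfl⟩
    exact ⟨⟨x, hXY hx⟩ * y, mul_smul x (y : G) o⟩
  · rintro _ ⟨y, rfl⟩
    exact hcov y

/-- `|Y o| |Y ∩ G_o| = |Y|` -/
theorem card_orbit_mul [Finite G] (Y : Subgroup G) (o : Ω) :
    (orbit Y o).ncard * Nat.card ↥(Y ⊓ stabilizer G o) = Nat.card Y := by
  have h1 := index_stabilizer Y o
  have h2 := (stabilizer Y o).index_mul_card
  have h3 : stabilizer Y o = (stabilizer G o).subgroupOf Y := rfl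
  rw [h1, h3] at h2
  rw [inf_comm, ← Nat.card_congr (Subgroup.subgroupOfEquivOfLe (inf_le_right (a := stabilizer G o) (b := Y))).toEquiv,
    Subgroup.inf_subgroupOf_right]
  exact h2

/-- a subgroup of index at most two of a simple group of order > 2 is the whole group -/
theorem eq_top_of_index_two [Finite G] [IsSimpleGroup G] (hG : 2 < Nat.card G) {Y : Subgroup G} (h : Y.index ≤ 2) :
    Y = ⊤ := by
  have h0 : Y.index ≠ 0 := Subgroup.index_ne_zero_of_finite
  have h12 : Y.index = 1 ∨ Y.index = 2 := by omega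
  rcases h12 with h1 | h1
  · exact Subgroup.index_eq_one.1 h1
  · have : Y.Normal := Subgroup.normal_of_index_eq_two h1
    rcases this.eq_bot_or_eq_top with h2 | h2
    · rw [h2, Subgroup.index_bot] at h1
      omega
    · exact h2

/-- **Unique maximal overgroup from suborbit lengths.** `X` the stabilizer of `o`. -/
theorem le_normalizer {ι : Type*} [Fintype ι] [Finite G] [IsSimpleGroup G] (hG : 2 < Nat.card G) (o : Ω)
    {X : Subgroup G} (hX : stabilizer G o = X)
    (B : ι → Set Ω) (hB : ∀ i, ∀ a ∈ B i, ∀ b ∈ B i, ∃ x ∈ X, x • a = b)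
    (hoB : ∀ i, o ∉ B i) (hdisj : ∀ i j, i ≠ j → Disjoint (B i) (B j))
    (hcov : ∀ g : G, g • o = o ∨ ∃ i, g • o ∈ B i) (b : ι → ℕ) (hb : ∀ i, (B i).ncard = b i) (N : ℕ)
    (hN : X.index = N)
    (hnum : ∀ S : Finset ι, (1 + ∑ i ∈ S, b i) ∣ N → 1 + ∑ i ∈ S, b i ≤ 2 ∨ N ≤ 2 * (1 + ∑ i ∈ S, b i)) :
    ∀ Y : Subgroup G, X ≤ Y → Y ≠ ⊤ → Y ≤ normalizer (X : Set G) := by
  intro Y hXY hY
  obtain ⟨S, hS⟩ := orbit_card hXY o B hB hoB hdisj hcov
  have h1 := card_orbit_mul Y o
  rw [hX, inf_eq_right.2 hXY] at h1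
  have hs : (orbit Y o).ncard = 1 + ∑ i ∈ S, b i := by
    rw [hS]; congr 1; exact Finset.sum_congr rfl fun i _ => hb i
  have h2 := Subgroup.card_mul_index Y
  have h3 := Subgroup.card_mul_index X
  have hXpos : 0 < Nat.card X := Nat.card_pos
  have h4 : (orbit Y o).ncard * Y.index = N := by
    apply Nat.eq_of_mul_eq_mul_left hXpos
    rw [← hN, h3, ← h2, ← h1]
    ring
  have h5 := hnum S (by rw [← hs]; exact Dvd.intro _ h4)
  rw [← hs] at h5
  rcases h5 with h5 | h5
  · -- index at most 2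
    have h6 : X.relIndex Y ≤ 2 := by
      have h7 := (X.subgroupOf Y).index_mul_card
      rw [Nat.card_congr (Subgroup.subgroupOfEquivOfLe hXY).toEquiv, ← h1] at h7
      rw [Subgroup.relIndex, Nat.eq_of_mul_eq_mul_right hXpos h7]; exact h5
    have h0 : X.relIndex Y ≠ 0 := Subgroup.index_ne_zero_of_finite
    have hn : (X.subgroupOf Y).Normal := by
      have h12 : X.relIndex Y = 1 ∨ X.relIndex Y = 2 := by omega
      rcases h12 with h | h
      · have : X.subgroupOf Y = ⊤ := Subgroup.index_eq_one.1 h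
        rw [this]; infer_instance
      · exact Subgroup.normal_of_index_eq_two h
    exact Subgroup.normal_subgroupOf_iff_le_normalizer hXY |>.1 hn
  · exfalso
    apply hY
    apply eq_top_of_index_two hG
    have hpos : 0 < (orbit Y o).ncard := by rw [hs]; omega
    rw [← h4] at h5
    rw [mul_comm 2] at h5
    exact Nat.le_of_mul_le_mul_left h5 hpos

/-- a block of the overgroup of index two -/
theorem block2 {X H : Subgroup G} (h2 : X.relIndex H = 2) {D B : Set Ω} (hBf : B.Finite)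
    (hD : ∀ x ∈ X, ∀ d ∈ D, x • d ∈ D)
    (hBH : ∀ h ∈ H, ∀ a ∈ B, h • a ∈ B) (hB : ∀ a ∈ B, ∀ b ∈ B, ∃ x ∈ H, x • a = b) :
    ∃ c : ℕ, c ≤ 2 ∧ 2 * (D ∩ B).ncard = c * B.ncard := by
  classical
  rcases Set.eq_empty_or_nonempty (D ∩ B) with h | ⟨a, haD, haB⟩
  · exact ⟨0, by omega, by rw [h, Set.ncard_empty, Nat.zero_mul]⟩
  · by_cases hsub : B ⊆ D
    · exact ⟨2, le_rfl, by rw [Set.inter_eq_right.2 hsub]⟩
    · refine ⟨1, by omega, ?_⟩
      -- an element of `H` outside `X`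
      have hn : (X.subgroupOf H).Normal := Subgroup.normal_of_index_eq_two h2
      have hmul : ∀ g ∈ H, ∀ k ∈ H, g ∉ X → k ∉ X → g * k ∈ X := by
        intro g hg k hk hgX hkX
        have := Subgroup.mul_mem_iff_of_index_two h2 (a := (⟨g, hg⟩ : H)) (b := ⟨k, hk⟩)
        rw [Subgroup.mem_subgroupOf, Subgroup.mem_subgroupOf, Subgroup.mem_subgroupOf] at this
        exact this.2 (iff_of_false hgX hkX)
      obtain ⟨b, hbB, hbD⟩ := Set.not_subset.1 hsub
      obtain ⟨t, htH, htb⟩ := hB a haB b hbB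
      have htX : t ∉ X := fun h => hbD (htb ▸ hD t h a haD)
      -- the translate by `t` exchanges `D ∩ B` and its complement in `B`
      have hkey : (B \ D) = (fun y => t • y) '' (D ∩ B) := by
        ext y
        constructor
        · rintro ⟨hyB, hyD⟩
          refine ⟨t⁻¹ • y, ⟨?_, hBH _ (H.inv_mem htH) _ hyB⟩, by simp⟩
          obtain ⟨k, hk, hky⟩ := hB a haB y hyB
          have hkX : k ∉ X := fun h => hyD (hky ▸ hD k h a haD)
          have h3 : t⁻¹ * k ∈ X := hmul _ (H.inv_mem htH) k hk (fun h => htX (by simpa using X.inv_mem h)) hkX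
          have h4 : t⁻¹ • y = (t⁻¹ * k) • a := by rw [mul_smul, hky]
          rw [h4]
          exact hD _ h3 a haD
        · rintro ⟨z, ⟨hzD, hzB⟩, rfl⟩
          refine ⟨hBH t htH z hzB, fun hz => ?_⟩
          change t • z ∈ D at hz
          obtain ⟨k, hk, hka⟩ := hB (t • z) (hBH t htH z hzB) b hbB
          -- `k t z = b`
          by_cases hkX : k ∈ X
          · exact hbD (hka ▸ hD k hkX _ hz)
          · have h5 := hmul k hk t htH hkX htX
            rw [smul_smul] at hka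
            exact hbD (hka ▸ hD _ h5 _ hzD)
      have h6 : (B \ D).ncard = (D ∩ B).ncard := by
        rw [hkey]
        exact Set.ncard_image_of_injective _ (MulAction.injective t)
      have h7 := Set.ncard_inter_add_ncard_sdiff_eq_ncard B D hBf
      rw [Set.inter_comm, h6] at h7
      omega

/-- **Unique maximal overgroup from suborbit lengths**, `X` of index two in the stabilizer of `o`. -/
theorem le_stabilizer {ι : Type*} [Fintype ι] [Finite G] [IsSimpleGroup G] (hG : 2 < Nat.card G) (o : Ω)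
    {X H : Subgroup G} (hH : stabilizer G o = H) (hXH : X ≤ H) (h2 : X.relIndex H = 2)
    (B : ι → Set Ω) (hBf : ∀ i, (B i).Finite) (hBH : ∀ i, ∀ h ∈ H, ∀ a ∈ B i, h • a ∈ B i)
    (hB : ∀ i, ∀ a ∈ B i, ∀ b ∈ B i, ∃ x ∈ H, x • a = b)
    (hoB : ∀ i, o ∉ B i) (hdisj : ∀ i j, i ≠ j → Disjoint (B i) (B j))
    (hcov : ∀ g : G, g • o = o ∨ ∃ i, g • o ∈ B i) (b : ι → ℕ) (hb : ∀ i, (B i).ncard = b i) (N : ℕ)
    (hN : H.index = N)
    (hnum : ∀ c : ι → Fin 3, (∀ i, 2 ∣ (c i : ℕ) * b i) → (1 + ∑ i, (c i : ℕ) * b i / 2) ∣ 2 * N →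
      ∑ i, (c i : ℕ) * b i / 2 = 0 ∨ N ≤ 1 + ∑ i, (c i : ℕ) * b i / 2) :
    ∀ Y : Subgroup G, X ≤ Y → Y ≠ ⊤ → Y ≤ H := by
  classical
  intro Y hXY hY
  have hD : ∀ x ∈ X, ∀ d ∈ orbit Y o, x • d ∈ orbit Y o := by
    rintro x hx _ ⟨y, rfl⟩
    exact ⟨⟨x, hXY hx⟩ * y, mul_smul x (y : G) o⟩
  have h1 := ncard_sum (D := orbit Y o) (Set.finite_range _) o (mem_orbit_self o) B hoB hdisj
    (by rintro _ ⟨y, rfl⟩; exact hcov y)
  have h3 : ∀ i, ∃ c : Fin 3, 2 * (orbit Y o ∩ B i).ncard = c * b i := by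
    intro i
    obtain ⟨c, hc, h⟩ := block2 h2 (hBf i) hD (hBH i) (hB i)
    exact ⟨⟨c, by omega⟩, by rw [h, hb i]⟩
  choose c hc using h3
  have h4 : ∀ i, (c i : ℕ) * b i / 2 = (orbit Y o ∩ B i).ncard := fun i => by
    have := hc i
    omega
  have hn : (orbit Y o).ncard = 1 + ∑ i, (c i : ℕ) * b i / 2 := by
    rw [h1]; congr 1; exact Finset.sum_congr rfl fun i _ => (h4 i).symm
  -- the indices
  have h5 := card_orbit_mul Y o
  rw [hH] at h5
  have h6 : X ≤ Y ⊓ H := le_inf hXY hXH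
  obtain ⟨k, hk⟩ := Subgroup.card_dvd_of_le h6
  have hXpos : 0 < Nat.card X := Nat.card_pos
  have h7 := Y.card_mul_index
  have h8 := H.card_mul_index
  have h9 : Nat.card H = Nat.card X * 2 := by
    rw [← (X.subgroupOf H).card_mul_index, Nat.card_congr (Subgroup.subgroupOfEquivOfLe hXH).toEquiv]
    congr 1
  have h10 : (orbit Y o).ncard * k * Y.index = 2 * N := by
    apply Nat.eq_of_mul_eq_mul_left hXpos
    calc Nat.card X * ((orbit Y o).ncard * k * Y.index) = (orbit Y o).ncard * (Nat.card X * k) * Y.index := by ring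
      _ = Nat.card G := by rw [← hk, h5, h7]
      _ = Nat.card X * (2 * N) := by rw [← h8, h9, hN]; ring
  have hk0 : 0 < k := by
    rcases Nat.eq_zero_or_pos k with h | h
    · rw [h, mul_zero] at hk
      exact absurd hk Nat.card_pos.ne'
    · exact h
  have hpos : 0 < (orbit Y o).ncard := by rw [hn]; omega
  have hdvd : (1 + ∑ i, (c i : ℕ) * b i / 2) ∣ 2 * N := by
    rw [← hn, ← h10, mul_assoc]
    exact Dvd.intro _ rfl
  rcases hnum c (fun i => by rw [← hc i]; exact Dvd.intro _ rfl) hdvd with h11 | h11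
  · -- the orbit is `{o}`
    rw [h11, add_zero] at hn
    rw [← hH]
    intro y hy
    obtain ⟨x, hx⟩ := Set.ncard_eq_one.1 hn
    have ho : o ∈ orbit Y o := mem_orbit_self o
    have hyo : y • o ∈ orbit Y o := ⟨⟨y, hy⟩, rfl⟩
    rw [hx, Set.mem_singleton_iff] at ho hyo
    rw [mem_stabilizer_iff, hyo, ← ho]
  · exfalso
    apply hY
    apply eq_top_of_index_two hG
    rw [← hn] at h11
    have h12 : (orbit Y o).ncard * Y.index ≤ 2 * N := by
      rw [← h10, mul_right_comm]
      exact Nat.le_mul_of_pos_right _ hk0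
    have h13 : (orbit Y o).ncard * Y.index ≤ (orbit Y o).ncard * 2 := by
      refine h12.trans ?_
      rw [mul_comm]
      exact Nat.mul_le_mul_right _ h11
    exact Nat.le_of_mul_le_mul_left h13 hpos

/-- disjoint blocks of total size `|Ω|` cover -/
theorem cover {ι : Type*} [Fintype ι] [Finite Ω] (o : Ω) (B : ι → Set Ω) (hoB : ∀ i, o ∉ B i)
    (hdisj : ∀ i j, i ≠ j → Disjoint (B i) (B j)) (hsum : Nat.card Ω ≤ 1 + ∑ i, (B i).ncard) (d : Ω) :
    d = o ∨ ∃ i, d ∈ B i := by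
  have h1 := ncard_sum (D := {o} ∪ ⋃ i, B i) (Set.toFinite _) o (Or.inl rfl) B hoB hdisj (by
    rintro d (h | h)
    · exact Or.inl h
    · exact Or.inr (Set.mem_iUnion.1 h))
  have h2 : ∀ i, ({o} ∪ ⋃ j, B j) ∩ B i = B i := fun i =>
    Set.inter_eq_right.2 ((Set.subset_iUnion B i).trans Set.subset_union_right)
  simp_rw [h2] at h1
  have h3 : ({o} ∪ ⋃ i, B i) = Set.univ := by
    apply Set.eq_of_subset_of_ncard_le (Set.subset_univ _) _ (Set.toFinite _)
    rw [Set.ncard_univ, h1]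
    exact hsum
  have h4 : d ∈ ({o} ∪ ⋃ i, B i) := by rw [h3]; trivial
  rcases h4 with h | h
  · exact Or.inl h
  · exact Or.inr (Set.mem_iUnion.1 h)

/-- the same inside a finite set -/
theorem cover_of {ι : Type*} [Fintype ι] {P : Set Ω} (hP : P.Finite) (o : Ω) (ho : o ∈ P) (B : ι → Set Ω)
    (hBP : ∀ i, B i ⊆ P) (hoB : ∀ i, o ∉ B i)
    (hdisj : ∀ i j, i ≠ j → Disjoint (B i) (B j)) (hsum : P.ncard ≤ 1 + ∑ i, (B i).ncard) {d : Ω} (hd : d ∈ P) :
    d = o ∨ ∃ i, d ∈ B i := by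
  have hsub : ({o} ∪ ⋃ i, B i) ⊆ P := by
    rintro d (h | h)
    · rw [Set.mem_singleton_iff.1 h]; exact ho
    · obtain ⟨i, hi⟩ := Set.mem_iUnion.1 h
      exact hBP i hi
  have h1 := ncard_sum (D := {o} ∪ ⋃ i, B i) (hP.subset hsub) o (Or.inl rfl) B hoB hdisj (by
    rintro d (h | h)
    · exact Or.inl h
    · exact Or.inr (Set.mem_iUnion.1 h))
  have h2 : ∀ i, ({o} ∪ ⋃ j, B j) ∩ B i = B i := fun i =>
    Set.inter_eq_right.2 ((Set.subset_iUnion B i).trans Set.subset_union_right)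
  simp_rw [h2] at h1
  have h3 : ({o} ∪ ⋃ i, B i) = P := by
    apply Set.eq_of_subset_of_ncard_le hsub _ hP
    rw [h1]
    exact hsum
  have h4 : d ∈ ({o} ∪ ⋃ i, B i) := by rw [h3]; exact hd
  rcases h4 with h | h
  · exact Or.inl h
  · exact Or.inr (Set.mem_iUnion.1 h)

section coset

variable {ι : Type*} [Fintype ι] [Finite G] {X : Subgroup G} (q : ι → G ⧸ X) (b : ι → ℕ)

omit [Fintype ι] [Finite G] in
theorem orbit_base (g : G) (h : (orbit X (QuotientGroup.mk 1 : G ⧸ X)) = orbit X (QuotientGroup.mk g : G ⧸ X)) :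
    (orbit X (QuotientGroup.mk g : G ⧸ X)).ncard = 1 := by
  rw [← h, Set.ncard_eq_one]
  refine ⟨QuotientGroup.mk 1, ?_⟩
  ext y
  constructor
  · rintro ⟨x, rfl⟩
    rw [Set.mem_singleton_iff]
    change QuotientGroup.mk ((x : G) * 1) = _
    rw [mul_one]
    exact (QuotientGroup.eq.2 (by simp)).symm
  · intro h
    rw [Set.mem_singleton_iff.1 h]
    exact mem_orbit_self _

/-- the hypotheses on the blocks for the action on the cosets -/
theorem coset_data (hb : ∀ i, (orbit X (q i)).ncard = b i) (h1 : ∀ i, 1 < b i)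
    (hne : ∀ i j, i ≠ j → orbit X (q i) ≠ orbit X (q j)) (N : ℕ) (hN : X.index = N) (hsum : N ≤ 1 + ∑ i, b i) :
    (∀ i, (QuotientGroup.mk 1 : G ⧸ X) ∉ orbit X (q i)) ∧
    (∀ i j, i ≠ j → Disjoint (orbit X (q i)) (orbit X (q j))) ∧
    (∀ g : G, g • (QuotientGroup.mk 1 : G ⧸ X) = QuotientGroup.mk 1 ∨
      ∃ i, g • (QuotientGroup.mk 1 : G ⧸ X) ∈ orbit X (q i)) := by
  have hoB : ∀ i, (QuotientGroup.mk 1 : G ⧸ X) ∉ orbit X (q i) := by
    intro i h
    have h2 : orbit X (QuotientGroup.mk 1 : G ⧸ X) = orbit X (q i) := MulAction.orbit_eq_iff.2 h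
    obtain ⟨g, hg⟩ := QuotientGroup.mk_surjective (q i)
    have h3 := orbit_base g (by rw [hg]; exact h2)
    rw [hg, hb i] at h3
    have := h1 i
    omega
  have hd : ∀ i j, i ≠ j → Disjoint (orbit X (q i)) (orbit X (q j)) := by
    intro i j hij
    rcases MulAction.orbit.eq_or_disjoint (G := X) (q i) (q j) with h | h
    · exact absurd h (hne i j hij)
    · exact h
  refine ⟨hoB, hd, fun g => cover _ (fun i => orbit X (q i)) hoB hd ?_ _⟩
  have h5 : Nat.card (G ⧸ X) = N := hN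
  rw [h5]
  simp_rw [hb]
  exact hsum

/-- **Unique maximal overgroup from suborbit lengths**, cosets. -/
theorem le_normalizer_coset [IsSimpleGroup G] (hG : 2 < Nat.card G) (hb : ∀ i, (orbit X (q i)).ncard = b i)
    (h1 : ∀ i, 1 < b i) (hne : ∀ i j, i ≠ j → orbit X (q i) ≠ orbit X (q j)) (N : ℕ) (hN : X.index = N)
    (hsum : N ≤ 1 + ∑ i, b i)
    (hnum : ∀ S : Finset ι, (1 + ∑ i ∈ S, b i) ∣ N → 1 + ∑ i ∈ S, b i ≤ 2 ∨ N ≤ 2 * (1 + ∑ i ∈ S, b i)) :
    ∀ Y : Subgroup G, X ≤ Y → Y ≠ ⊤ → Y ≤ normalizer (X : Set G) := by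
  obtain ⟨h2, h3, h4⟩ := coset_data q b hb h1 hne N hN hsum
  refine le_normalizer hG (QuotientGroup.mk 1 : G ⧸ X) ?_ (fun i => orbit X (q i)) ?_ h2 h3 h4 b hb N hN hnum
  · exact MulAction.stabilizer_quotient X
  · intro i a ha c hc
    obtain ⟨x, hx⟩ : c ∈ orbit X a := by rw [MulAction.orbit_eq_iff.2 ha]; exact hc
    exact ⟨x, x.2, hx⟩

/-- **Unique maximal overgroup from suborbit lengths**, cosets, index two. -/
theorem le_coset_two [IsSimpleGroup G] {X' : Subgroup G} (hG : 2 < Nat.card G)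
    (hX' : X' ≤ X) (h2X : X'.relIndex X = 2) (hb : ∀ i, (orbit X (q i)).ncard = b i)
    (h1 : ∀ i, 1 < b i) (hne : ∀ i j, i ≠ j → orbit X (q i) ≠ orbit X (q j)) (N : ℕ) (hN : X.index = N)
    (hsum : N ≤ 1 + ∑ i, b i)
    (hnum : ∀ c : ι → Fin 3, (∀ i, 2 ∣ (c i : ℕ) * b i) → (1 + ∑ i, (c i : ℕ) * b i / 2) ∣ 2 * N →
      ∑ i, (c i : ℕ) * b i / 2 = 0 ∨ N ≤ 1 + ∑ i, (c i : ℕ) * b i / 2) :
    ∀ Y : Subgroup G, X' ≤ Y → Y ≠ ⊤ → Y ≤ X := by
  obtain ⟨h2, h3, h4⟩ := coset_data q b hb h1 hne N hN hsum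
  refine le_stabilizer hG (QuotientGroup.mk 1 : G ⧸ X) ?_ hX' h2X (fun i => orbit X (q i)) (fun i => Set.finite_range _)
    ?_ ?_ h2 h3 h4 b hb N hN hnum
  · exact MulAction.stabilizer_quotient X
  · intro i h hh a ha
    exact MulAction.mem_orbit_of_mem_orbit (⟨h, hh⟩ : X) ha
  · intro i a ha c hc
    obtain ⟨x, hx⟩ : c ∈ orbit X a := by rw [MulAction.orbit_eq_iff.2 ha]; exact hc
    exact ⟨x, x.2, hx⟩

end coset

/-- the normalizer of a nontrivial proper subgroup of a simple group is proper -/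
theorem normalizer_ne_top [IsSimpleGroup G] {X : Subgroup G} (h0 : X ≠ ⊥) (h1 : X ≠ ⊤) :
    normalizer (X : Set G) ≠ ⊤ := by
  intro h
  have : X.Normal := Subgroup.normalizer_eq_top_iff.mp h
  rcases this.eq_bot_or_eq_top with h | h
  · exact h0 h
  · exact h1 h

/-- **`CL` from suborbit lengths.** -/
theorem cl_of_rank {ι : Type*} [Fintype ι] [Finite G] [IsSimpleGroup G] (hb : Below (Nat.card G)) (o : Ω)
    {X : Subgroup G} (hs : IsSimpleGroup X) (hX : stabilizer G o = X)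
    (B : ι → Set Ω) (hB : ∀ i, ∀ a ∈ B i, ∀ b ∈ B i, ∃ x ∈ X, x • a = b)
    (hoB : ∀ i, o ∉ B i) (hdisj : ∀ i j, i ≠ j → Disjoint (B i) (B j))
    (hcov : ∀ g : G, g • o = o ∨ ∃ i, g • o ∈ B i) (b : ι → ℕ) (hcb : ∀ i, (B i).ncard = b i) (N : ℕ) (hN2 : 1 < N)
    (hN : X.index = N)
    (hnum : ∀ S : Finset ι, (1 + ∑ i ∈ S, b i) ∣ N → 1 + ∑ i ∈ S, b i ≤ 2 ∨ N ≤ 2 * (1 + ∑ i ∈ S, b i)) : CL G := by
  have hXc : 1 < Nat.card X := by
    have : Nontrivial X := hs.toNontrivial
    exact Finite.one_lt_card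
  have h1 := X.card_mul_index
  rw [hN] at h1
  have hlt : Nat.card X < Nat.card G := by
    rw [← h1]
    exact lt_mul_of_one_lt_right (by omega) hN2
  have h0 : X ≠ ⊥ := by
    rintro rfl
    rw [Subgroup.card_bot] at hXc
    exact lt_irrefl _ hXc
  have ht : X ≠ ⊤ := by
    rintro rfl
    rw [Subgroup.card_top] at hlt
    exact lt_irrefl _ hlt
  exact crit_unique (hb.apply hlt) (normalizer_ne_top h0 ht)
    (le_normalizer (by omega) o hX B hB hoB hdisj hcov b hcb N hN hnum)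

end Cfsg.Agent.H13.RankCL
end

-- part: H13/RankRows
section
/-!
# Complemented subgroup lattices: Suz, He, Fi22, Fi23 (helper13, S5900)
-/

set_option autoImplicit false

namespace Cfsg.Agent.H13.RankRows

open Subgroup MulAction Cfsg Cfsg.Agent.H939.KLat Cfsg.Agent.H13.RankCL

universe u v

/-- transfer -/
theorem congr {G : Type u} {H : Type v} [Group G] [Finite G] [IsSimpleGroup G] [Group H] (e : G ≃* H)
    (hb : Below (Nat.card G)) (h : ∀ [Finite H] [IsSimpleGroup H], Below (Nat.card H) → CL H) : CL G := by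
  have h1 : Finite H := Finite.of_equiv G e.toEquiv
  have h2 : IsSimpleGroup H := (MulEquiv.isSimpleGroup_congr e).mp inferInstance
  have h3 : Nat.card G = Nat.card H := Nat.card_congr e.toEquiv
  exact of_equiv e.symm (h (h3 ▸ hb))

theorem card_lt_of_index {G : Type u} [Group G] [Finite G] {X : Subgroup G} {N : ℕ} (hN : X.index = N) (h1 : 1 < N) :
    Nat.card X < Nat.card G := by
  have h := X.card_mul_index
  rw [hN] at h
  rw [← h]
  exact lt_mul_of_one_lt_right Nat.card_pos h1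

theorem ne_bot_of_simple {G : Type u} [Group G] {X : Subgroup G} (hs : IsSimpleGroup X) : X ≠ ⊥ := by
  rintro rfl
  have := hs.toNontrivial
  exact not_subsingleton (⊥ : Subgroup G) inferInstance

/-- rank three, simple point stabilizer -/
theorem cl3 {G : Type u} [Group G] [Finite G] [IsSimpleGroup G] (hb : Below (Nat.card G)) {X : Subgroup G}
    (hs : IsSimpleGroup X) {N a b : ℕ} (hN : X.index = N) (hN1 : 1 < N) (q₁ q₂ : G ⧸ X)
    (h1 : (orbit X q₁).ncard = a) (h2 : (orbit X q₂).ncard = b) (ha : 1 < a) (hb' : 1 < b) (hab : a ≠ b)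
    (hsum : N ≤ 1 + (a + b))
    (hnum : ∀ S : Finset (Fin 2), (1 + ∑ i ∈ S, ![a, b] i) ∣ N →
      1 + ∑ i ∈ S, ![a, b] i ≤ 2 ∨ N ≤ 2 * (1 + ∑ i ∈ S, ![a, b] i)) : CL G := by
  have hlt := card_lt_of_index hN hN1
  have hXc : 1 < Nat.card X := by
    have : Nontrivial X := hs.toNontrivial
    exact Finite.one_lt_card
  have ht : X ≠ ⊤ := by
    rintro rfl
    rw [Subgroup.index_top] at hN
    omega
  refine crit_unique (hb.apply hlt) (normalizer_ne_top (ne_bot_of_simple hs) ht)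
    (le_normalizer_coset ![q₁, q₂] ![a, b] (by omega) ?_ ?_ ?_ N hN ?_ hnum)
  · intro i; fin_cases i
    · exact h1
    · exact h2
  · intro i; fin_cases i
    · exact ha
    · exact hb'
  · intro i j hij h
    have h3 := congrArg Set.ncard h
    fin_cases i <;> fin_cases j
    · exact hij rfl
    · exact hab (h1.symm.trans (h3.trans h2))
    · exact hab (h1.symm.trans (h3.symm.trans h2))
    · exact hij rfl
  · simpa [Fin.sum_univ_two] using hsum

/-- rank three, point stabilizer a double cover of a simple group -/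
theorem cl3_cover {G : Type u} [Group G] [Finite G] [IsSimpleGroup G] (hb : Below (Nat.card G)) {X : Subgroup G}
    {K : Type v} [Group K] (hs : IsSimpleGroup K) (hcov : IsNonsplitDoubleCover X K)
    {N a b : ℕ} (hN : X.index = N) (hN1 : 1 < N) (q₁ q₂ : G ⧸ X)
    (h1 : (orbit X q₁).ncard = a) (h2 : (orbit X q₂).ncard = b) (ha : 1 < a) (hb' : 1 < b) (hab : a ≠ b)
    (hsum : N ≤ 1 + (a + b))
    (hnum : ∀ S : Finset (Fin 2), (1 + ∑ i ∈ S, ![a, b] i) ∣ N →
      1 + ∑ i ∈ S, ![a, b] i ≤ 2 ∨ N ≤ 2 * (1 + ∑ i ∈ S, ![a, b] i)) : CL G := by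
  obtain ⟨hZ, ⟨e⟩, -⟩ := hcov
  have hlt := card_lt_of_index hN hN1
  have ht : X ≠ ⊤ := by
    rintro rfl
    rw [Subgroup.index_top] at hN
    omega
  have hXc : 1 < Nat.card X := by
    have := Subgroup.card_le_card_group (center X)
    omega
  have h0 : X ≠ ⊥ := by
    rintro rfl
    rw [Subgroup.card_bot] at hXc
    exact lt_irrefl _ hXc
  have huniq : ∀ Y : Subgroup G, X ≤ Y → Y ≠ ⊤ → Y ≤ normalizer (X : Set G) := by
    refine le_normalizer_coset ![q₁, q₂] ![a, b] (by omega) ?_ ?_ ?_ N hN ?_ hnum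
    · intro i; fin_cases i
      · exact h1
      · exact h2
    · intro i; fin_cases i
      · exact ha
      · exact hb'
    · intro i j hij h
      have h3 := congrArg Set.ncard h
      fin_cases i <;> fin_cases j
      · exact hij rfl
      · exact hab (h1.symm.trans (h3.trans h2))
      · exact hab (h1.symm.trans (h3.symm.trans h2))
      · exact hij rfl
    · simpa [Fin.sum_univ_two] using hsum
  have hT : (center X).map X.subtype ≤ X := Subgroup.map_subtype_le _
  have hTs : ((center X).map X.subtype).subgroupOf X = center X := by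
    rw [Subgroup.subgroupOf, Subgroup.comap_map_eq_self_of_injective X.subtype_injective]
  have hcT : Nat.card ((center X).map X.subtype) = 2 := by
    rw [← hZ]
    exact (Nat.card_congr (Subgroup.equivMapOfInjective _ _ X.subtype_injective).toEquiv).symm
  have hKlt : Nat.card K < Nat.card G := by
    have h5 := (center X).card_mul_index
    have h6 : Nat.card K = (center X).index := by
      rw [← Nat.card_congr e.toEquiv]; rfl
    rw [hZ] at h5
    omega
  have hKf : Finite K := Finite.of_equiv _ e.toEquiv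
  refine crit_prime (T := (center X).map X.subtype) (X := X) hT ?_ (normalizer_ne_top h0 ht)
    (by rw [hcT]; exact Nat.prime_two) ?_ huniq
  · exact int_of_surj hT (QuotientGroup.mk' (center X)) (QuotientGroup.mk'_surjective _)
      (by rw [QuotientGroup.ker_mk', hTs]) (of_equiv e.symm (hb.apply hKlt))
  · rintro m hm _ ⟨t, ht, rfl⟩
    have hm' := Subgroup.mem_normalizer_iff.1 hm
    have h7 : m * (t : G) * m⁻¹ ∈ X := (hm' t).1 t.2
    refine ⟨⟨_, h7⟩, ?_, rfl⟩
    rw [SetLike.mem_coe, Subgroup.mem_center_iff]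
    intro g
    apply Subtype.ext
    change (g : G) * (m * (t : G) * m⁻¹) = m * t * m⁻¹ * g
    have h8 : m⁻¹ * (g : G) * m ∈ X := by
      have := (hm' (m⁻¹ * (g : G) * m)).2 (by convert g.2 using 1; group)
      exact this
    have h9 : (m⁻¹ * (g : G) * m) * t = t * (m⁻¹ * g * m) :=
      congrArg Subtype.val (Subgroup.mem_center_iff.1 ht ⟨_, h8⟩)
    calc (g : G) * (m * (t : G) * m⁻¹) = m * ((m⁻¹ * (g : G) * m) * t) * m⁻¹ := by group
      _ = m * (t * (m⁻¹ * g * m)) * m⁻¹ := by rw [h9]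
      _ = m * t * m⁻¹ * g := by group

/-! ### Suz -/

theorem cl_Suz {G : Type u} [Group G] [Finite G] [IsSimpleGroup G] (h : Spor.IsoSuz G)
    (hb : Below (Nat.card G)) : CL G := by
  obtain ⟨e⟩ := h
  refine congr e hb fun {_ _} hb => ?_
  obtain ⟨K, _, _, hK, ⟨f⟩⟩ := S1679.result
  obtain ⟨hN, q₁, q₂, h1, h2⟩ := S1680.result
  have hs : IsSimpleGroup ↥(Lie.chevG2.group K) := by
    refine (S1055.result ?_).1
    by_contra hcon
    push Not at hcon
    have : Fintype.card K ≤ 2 := by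
      classical
      have h3 : (Finset.univ : Finset K) ⊆ {0, 1} := by
        intro a _
        rw [Finset.mem_insert, Finset.mem_singleton]
        by_cases ha : a = 0
        · exact Or.inl ha
        · exact Or.inr (hcon a ha)
      exact (Finset.card_le_card h3).trans (Finset.card_le_two)
    omega
  exact cl3 hb ((MulEquiv.isSimpleGroup_congr f).mpr hs) hN (by norm_num) q₁ q₂ h1 h2 (by norm_num) (by norm_num)
    (by norm_num) (by norm_num) (by decide)

/-! ### Fi22, Fi23 -/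

theorem cl_Fi22 {G : Type u} [Group G] [Finite G] [IsSimpleGroup G] (h : Spor.IsoFi22 G)
    (hb : Below (Nat.card G)) : CL G := by
  obtain ⟨e⟩ := h
  refine congr e hb fun {_ _} hb => ?_
  obtain ⟨K, _, _, hK, hc⟩ := S1684.result
  obtain ⟨hN, q₁, q₂, h1, h2⟩ := S1687.result
  have hs : IsSimpleGroup (PSU 6 K 2) := S0283.result (by rw [hK]; norm_num) 6 (by norm_num) (by norm_num)
  exact cl3_cover hb hs hc hN (by norm_num) q₁ q₂ h1 h2 (by norm_num) (by norm_num)
    (by norm_num) (by norm_num) (by decide)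

theorem cl_Fi23 {G : Type u} [Group G] [Finite G] [IsSimpleGroup G] (h : Spor.IsoFi23 G)
    (hb : Below (Nat.card G)) : CL G := by
  obtain ⟨e⟩ := h
  refine congr e hb fun {_ _} hb => ?_
  obtain ⟨hN, q₁, q₂, h1, h2⟩ := S1689.result
  exact cl3_cover hb Fischer.Fi22Order.isSimple S1688.result hN (by norm_num) q₁ q₂ h1 h2 (by norm_num) (by norm_num)
    (by norm_num) (by norm_num) (by decide)

/-! ### He -/

/-- point stabilizer with a simple subgroup of index two -/
theorem cl_two {G : Type u} [Group G] [Finite G] [IsSimpleGroup G] (hb : Below (Nat.card G)) {X : Subgroup G}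
    {M : Subgroup X} (hs : IsSimpleGroup M) (h2 : M.index = 2) {ι : Type*} [Fintype ι] (q : ι → G ⧸ X) (b : ι → ℕ)
    (hbq : ∀ i, (orbit X (q i)).ncard = b i)
    (h1 : ∀ i, 1 < b i) (hne : ∀ i j, i ≠ j → orbit X (q i) ≠ orbit X (q j)) (N : ℕ) (hN : X.index = N) (hN1 : 1 < N)
    (hsum : N ≤ 1 + ∑ i, b i)
    (hnum : ∀ c : ι → Fin 3, (∀ i, 2 ∣ (c i : ℕ) * b i) → (1 + ∑ i, (c i : ℕ) * b i / 2) ∣ 2 * N →
      ∑ i, (c i : ℕ) * b i / 2 = 0 ∨ N ≤ 1 + ∑ i, (c i : ℕ) * b i / 2) : CL G := by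
  have hlt := card_lt_of_index hN hN1
  have ht : X ≠ ⊤ := by
    rintro rfl
    rw [Subgroup.index_top] at hN
    omega
  have hMc : Nat.card (M.map X.subtype) = Nat.card M :=
    (Nat.card_congr (Subgroup.equivMapOfInjective _ _ X.subtype_injective).toEquiv).symm
  have hMs : IsSimpleGroup ↥(M.map X.subtype) :=
    (MulEquiv.isSimpleGroup_congr (Subgroup.equivMapOfInjective _ _ X.subtype_injective)).mp hs
  have hM1 : 1 < Nat.card M := by
    have : Nontrivial M := hs.toNontrivial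
    exact Finite.one_lt_card
  have hle : Nat.card M ≤ Nat.card X := Subgroup.card_le_card_group M
  refine crit_unique (hb.apply (S := ↥(M.map X.subtype)) (by omega)) ht
    (le_coset_two q b (by omega) (Subgroup.map_subtype_le M) ?_ hbq h1 hne N hN hsum hnum)
  rw [Subgroup.relIndex, Subgroup.subgroupOf, Subgroup.comap_map_eq_self_of_injective X.subtype_injective]
  exact h2

theorem cl_He {G : Type u} [Group G] [Finite G] [IsSimpleGroup G] (h : Spor.IsoHe G)
    (hb : Below (Nat.card G)) : CL G := by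
  obtain ⟨e⟩ := h
  refine congr e hb fun {_ _} hb => ?_
  obtain ⟨hN, q₁, q₂, q₃, q₄, h12, h1, h2, h3, h4⟩ := S1683.result
  obtain ⟨M, K, _, _, -, hM2, hK, ⟨f⟩⟩ := S1682.result
  have hchar : CharP K 2 := by
    obtain ⟨p, hp⟩ := CharP.exists K
    have hpp : Fact p.Prime := ⟨CharP.char_is_prime K p⟩
    obtain ⟨n, hn, hc⟩ := FiniteField.card K p
    rw [hK] at hc
    have : p ∣ 2 ^ 2 := by
      rw [show 2 ^ 2 = 4 from rfl, hc]
      exact dvd_pow_self p n.pos.ne'
    have h2 := (Nat.prime_dvd_prime_iff_eq hpp.out Nat.prime_two).1 (hpp.out.dvd_of_dvd_pow this)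
    rw [← h2]; exact hp
  have hs : IsSimpleGroup M := by
    have h5 : IsSimpleGroup (PSp 2 K) := S0270.result 2 le_rfl (fun _ => by omega)
    exact (MulEquiv.isSimpleGroup_congr (f.trans (GpSp.Row.toPSp K 2))).mpr h5
  refine cl_two hb hs hM2 ![q₁, q₂, q₃, q₄] ![136, 136, 425, 1360] ?_ ?_ ?_ 2058 hN (by norm_num) ?_ (by decide +kernel)
  · intro i; fin_cases i
    · exact h1
    · exact h2
    · exact h3
    · exact h4
  · intro i; fin_cases i <;> decide
  · intro i j hij h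
    have h3' := congrArg Set.ncard h
    fin_cases i <;> fin_cases j
    all_goals first
      | exact hij rfl
      | exact h12 h
      | exact h12 h.symm
      | (exfalso; revert h3'; simp only [Fin.zero_eta, Fin.mk_one, Fin.reduceFinMk, Matrix.cons_val_zero,
          Matrix.cons_val_one, Matrix.cons_val]; first
            | rw [h1, h3]; norm_num
            | rw [h1, h4]; norm_num
            | rw [h2, h3]; norm_num
            | rw [h2, h4]; norm_num
            | rw [h3, h1]; norm_num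
            | rw [h3, h2]; norm_num
            | rw [h3, h4]; norm_num
            | rw [h4, h1]; norm_num
            | rw [h4, h2]; norm_num
            | rw [h4, h3]; norm_num)
  · decide

end Cfsg.Agent.H13.RankRows
end

-- part: H13/RankFi24
section
/-!
# Complemented subgroup lattices: Fi24' (helper13, S5900)
-/

set_option autoImplicit false

namespace Cfsg.Agent.H13.RankFi24

open Subgroup MulAction Cfsg Cfsg.Agent.H939.KLat Cfsg.Agent.H13.RankCL Cfsg.Agent.H13.RankRows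
open Cfsg.Agent.Fischer.Fi24RepOrb (H mem_H_gen)
open Cfsg.Agent.Fischer.Fi24Class (img emb emb_ne_k comm_l exists_fi23_hom)

theorem card_com : Nat.card (commutator Spor.Fi24) = 1255205709190661721292800 :=
  NotCT.Orders.fi24 ⟨MulEquiv.refl _⟩

theorem card_Fi24 : Nat.card Spor.Fi24 = 2 * 1255205709190661721292800 := by
  rw [← Subgroup.index_mul_card (commutator Spor.Fi24), Fischer.Fi24Final.index_commutator, card_com]

theorem arith0 (R n k i m : ℕ) (hR : 0 < R) (h : n * (R * k) * i = R * m) : n * (k * i) = m := by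
  apply Nat.eq_of_mul_eq_mul_left hR
  rw [← h]
  ring

theorem arith (n k i u₀ u₁ c₀ c₁ : ℕ) (hc₀ : c₀ ≤ 2) (hc₁ : c₁ ≤ 2) (h5 : 2 * u₀ = c₀ * 31671)
    (h6 : 2 * u₁ = c₁ * 275264) (h3 : n = 1 + (u₀ + u₁))
    (h8 : n * (4089470473293004800 * k) * i = 1255205709190661721292800) : n = 1 ∨ i = 1 := by
  have h9 : n * (k * i) = 306936 := arith0 4089470473293004800 n k i 306936 (by norm_num) (h8.trans (by norm_num))
  have hdvd : n ∣ 306936 := ⟨_, h9.symm⟩
  have h10 : u₀ = 0 ∨ u₀ = 31671 := by clear h8 h9 hdvd h3 h6; interval_cases c₀ <;> omega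
  have h11 : u₁ = 0 ∨ u₁ = 137632 ∨ u₁ = 275264 := by clear h8 h9 hdvd h3 h5; interval_cases c₁ <;> omega
  have h12 : n = 1 ∨ n = 306936 := by
    subst h3
    rcases h10 with rfl | rfl <;> rcases h11 with rfl | rfl | rfl
    · exact Or.inl rfl
    · exact absurd hdvd (by decide)
    · exact absurd hdvd (by decide)
    · exact absurd hdvd (by decide)
    · exact absurd hdvd (by decide)
    · exact Or.inr rfl
  rcases h12 with h | h
  · exact Or.inl h
  · right
    rw [h] at h9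
    have : k * i = 1 := Nat.eq_of_mul_eq_mul_left (by norm_num) (h9.trans (mul_one 306936).symm)
    exact Nat.eq_one_of_mul_eq_one_left this

theorem exists_phi : ∃ φ : Spor.Fi23 →* Spor.Fi24, Function.Injective φ ∧ φ.range ≤ H ∧
    φ.range ≤ commutator Spor.Fi24 := by
  have h97 := Cfsg.Agent.S1697.result
  obtain ⟨hidx, hst, -⟩ := SporRec.Fi24Index.index_and_suborbits
  obtain ⟨φ, hφ⟩ := exists_fi23_hom (Fischer.Fi24Spider.spider_rel hst)
  have hne : Nat.card (commutator Spor.Fi24) ≠ 1 := by rw [card_com]; norm_num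
  have hφ1 : Function.Injective φ := by
    apply Fischer.Fi24Class.injective_of_simple h97.1
    refine ⟨Cfsg.Agent.SporRec.Fi23Rel.gen .a, ?_⟩
    rw [hφ]
    intro h
    apply Fischer.Fi24Class.a_ne_l hne
    have h2 : Fischer.Fi24Rep.gen .a * Fischer.Fi24Rep.gen .l = 1 := h
    rw [mul_eq_one_iff_eq_inv] at h2
    rw [show (Fischer.Fi24Rep.gen .l)⁻¹ = Fischer.Fi24Rep.gen .l from Fischer.Fi24Class.gen_inv .l] at h2
    exact h2
  refine ⟨φ, hφ1, ?_, ?_⟩
  · rw [MonoidHom.range_eq_map, ← Cfsg.Agent.SporRec.Fi23Rel.closure_gen, MonoidHom.map_closure,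
      Subgroup.closure_le]
    rintro _ ⟨_, ⟨x, rfl⟩, rfl⟩
    rw [SetLike.mem_coe, hφ]
    exact mul_mem (mem_H_gen (emb_ne_k x)) (mem_H_gen (by decide))
  · refine Fischer.Fi24Class.range_le_commutator (Fischer.Fi24Class.perfect_of_simple h97.1 ?_) φ
    rw [h97.2]
    intro hp
    exact absurd ((Nat.prime_dvd_prime_iff_eq Nat.prime_two hp).1 (by norm_num)) (by norm_num)

theorem finite_fi24 [Finite (commutator Spor.Fi24)] [IsSimpleGroup (commutator Spor.Fi24)]
    (hb : Below (Nat.card (commutator Spor.Fi24))) : CL (commutator Spor.Fi24) := by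
  classical
  have hfin : Finite Spor.Fi24 := Nat.finite_of_card_ne_zero (by rw [card_Fi24]; norm_num)
  have h97 := Cfsg.Agent.S1697.result
  obtain ⟨hidx, -, q₁, q₂, h1, h2⟩ := SporRec.Fi24Index.index_and_suborbits
  obtain ⟨φ, hφ, hφH, hφN⟩ := exists_phi
  set N := commutator Spor.Fi24 with hN
  have hcR : Nat.card φ.range = 4089470473293004800 := by
    rw [← Nat.card_congr (MonoidHom.ofInjective hφ).toEquiv]
    exact h97.2
  have hcH : Nat.card H = 2 * 4089470473293004800 := by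
    have h3 := H.index_mul_card
    rw [hidx, card_Fi24] at h3
    omega
  have hrel : φ.range.relIndex H = 2 := by
    have h3 := (φ.range.subgroupOf H).index_mul_card
    rw [Nat.card_congr (Subgroup.subgroupOfEquivOfLe hφH).toEquiv, hcR, hcH] at h3
    exact Nat.eq_of_mul_eq_mul_right (by norm_num) h3
  -- the subgroup of `N`
  let e : Spor.Fi23 ≃* ↥(φ.range.subgroupOf N) :=
    (MonoidHom.ofInjective hφ).trans (Subgroup.subgroupOfEquivOfLe hφN).symm
  have hsX : IsSimpleGroup ↥(φ.range.subgroupOf N) := (MulEquiv.isSimpleGroup_congr e).mp h97.1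
  have hcX : Nat.card ↥(φ.range.subgroupOf N) = 4089470473293004800 := by
    rw [← Nat.card_congr e.toEquiv]; exact h97.2
  have hHN : H.subgroupOf N ≠ ⊤ := by
    intro h
    have h3 : N ≤ H := Subgroup.subgroupOf_eq_top.1 h
    have h4 := Subgroup.card_le_of_le h3
    rw [card_com, hcH] at h4
    omega
  refine crit_unique (X := φ.range.subgroupOf N) (M := H.subgroupOf N) (hb.apply (by rw [hcX, card_com]; norm_num))
    hHN fun Y hXY hY => ?_
  -- the orbit of the subgroup `Y`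
  set Z : Subgroup Spor.Fi24 := Y.map N.subtype with hZ
  have hRZ : φ.range ≤ Z := by
    intro x hx
    exact ⟨⟨x, hφN hx⟩, hXY hx, rfl⟩
  let o : Spor.Fi24 ⧸ H := QuotientGroup.mk 1
  obtain ⟨hoB, hdisj, hcov⟩ := coset_data ![q₁, q₂] ![31671, 275264] (by
      intro i; fin_cases i
      · exact h1
      · exact h2) (by intro i; fin_cases i <;> decide) (by
      intro i j hij h
      have h3 := congrArg Set.ncard h
      fin_cases i <;> fin_cases j
      · exact hij rfl
      · exact absurd (h1.symm.trans (h3.trans h2)) (by norm_num)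
      · exact absurd (h1.symm.trans (h3.symm.trans h2)) (by norm_num)
      · exact hij rfl) 306936 hidx (by decide)
  have hD : ∀ x ∈ φ.range, ∀ d ∈ orbit Z o, x • d ∈ orbit Z o := by
    rintro x hx _ ⟨y, rfl⟩
    exact ⟨⟨x, hRZ hx⟩ * y, mul_smul x (y : Spor.Fi24) o⟩
  have h3 := ncard_sum (D := orbit Z o) (Set.finite_range _) o (mem_orbit_self o)
    (fun i => orbit H ((![q₁, q₂] : Fin 2 → _) i)) hoB hdisj
    (by rintro _ ⟨y, rfl⟩; exact hcov y)
  have h4 : ∀ i : Fin 2, ∃ c : ℕ, c ≤ 2 ∧ 2 * (orbit Z o ∩ orbit H ((![q₁, q₂] : Fin 2 → _) i)).ncard =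
      c * (orbit H ((![q₁, q₂] : Fin 2 → _) i)).ncard := by
    intro i
    refine block2 hrel (Set.finite_range _) hD ?_ ?_
    · intro h hh a ha
      exact MulAction.mem_orbit_of_mem_orbit (⟨h, hh⟩ : H) ha
    · intro a ha c hc
      obtain ⟨x, hx⟩ : c ∈ orbit H a := by rw [MulAction.orbit_eq_iff.2 ha]; exact hc
      exact ⟨x, x.2, hx⟩
  obtain ⟨c₀, hc₀, h5⟩ := h4 0
  obtain ⟨c₁, hc₁, h6⟩ := h4 1
  have h1' : (orbit H ((![q₁, q₂] : Fin 2 → _) 0)).ncard = 31671 := h1
  have h2' : (orbit H ((![q₁, q₂] : Fin 2 → _) 1)).ncard = 275264 := h2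
  rw [h1'] at h5
  rw [h2'] at h6
  rw [Fin.sum_univ_two] at h3
  -- the orders
  have h7 := card_orbit_mul Z o
  have hst : stabilizer Spor.Fi24 o = H := MulAction.stabilizer_quotient H
  rw [hst] at h7
  obtain ⟨k, hk⟩ := Subgroup.card_dvd_of_le (le_inf hRZ hφH)
  have hcZ : Nat.card Z = Nat.card Y :=
    (Nat.card_congr (Subgroup.equivMapOfInjective _ _ N.subtype_injective).toEquiv).symm
  have h8 := Y.card_mul_index
  rw [card_com, ← hcZ, ← h7, hk, hcR] at h8
  rcases arith _ _ _ _ _ _ _ hc₀ hc₁ h5 h6 h3 h8 with h12 | h12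
  · -- fixes the point
    intro y hy
    rw [Subgroup.mem_subgroupOf]
    obtain ⟨x, hx⟩ := Set.ncard_eq_one.1 h12
    have ho : o ∈ orbit Z o := mem_orbit_self o
    have hyo : (y : Spor.Fi24) • o ∈ orbit Z o := ⟨⟨y, ⟨y, hy, rfl⟩⟩, rfl⟩
    rw [hx, Set.mem_singleton_iff] at ho hyo
    rw [← hst, mem_stabilizer_iff, hyo, ← ho]
  · exfalso
    exact hY (Subgroup.index_eq_one.1 h12)

theorem cl_Fi24 {G : Type*} [Group G] [Finite G] [IsSimpleGroup G] (h : Spor.IsoFi24' G)
    (hb : Below (Nat.card G)) : CL G := by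
  obtain ⟨e⟩ := h
  exact congr e hb fun {_ _} hb => finite_fi24 hb

end Cfsg.Agent.H13.RankFi24
end
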